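import Groth.Agent.Lib.Brown.Representable
import Groth.Prelude.Def_CohDer

/-!
Compactly generated categories are perfectly generated.
-/

set_option autoImplicit false

universe v u

open CategoryTheory CategoryTheory.Limits CategoryTheory.Pretriangulated
open CategoryTheory.Pretriangulated.Opposite Opposite

namespace Groth.Agent.Brown

variable {D : Type u} [Category.{v} D] [Preadditive D] [HasCoproducts.{v} D]

omit [HasCoproducts.{v} D] in
theorem exists_homSumToHomCoprod_eq_sum (K : D) {ι : Type v} (X : ι → D) [HasCoproduct X]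
    (s : DirectSum ι (fun i => K ⟶ X i)) :
    ∃ t : Finset ι, CohDer.homSumToHomCoprod K X s = ∑ i ∈ t, s i ≫ Sigma.ι X i := by
  classical
  refine ⟨s.support, ?_⟩
  conv_lhs => rw [← DirectSum.sum_support_of s, map_sum]
  refine Finset.sum_congr rfl fun i _ => ?_
  exact DirectSum.toAddMonoid_of _ _ _

/-- Every map from a compact object into a countable coproduct factors through a coproduct of
copies of that object. -/
theorem exists_perf_of_compact [HasColimitsOfShape (Discrete ℕ) D] (K : D)
    (hK : CohDer.IsCompactObject K) (X : ℕ → D) (α : K ⟶ ∐ X) :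
    ∃ (β : ∀ n, K ⟶ X n) (γ : K ⟶ ∐ fun _ : ℕ => K), α = γ ≫ Limits.Sigma.map β := by
  classical
  let w : (∐ fun k : ULift.{v} ℕ => X k.down) ⟶ ∐ X := Sigma.desc fun k => Sigma.ι X k.down
  let w' : ∐ X ⟶ ∐ fun k : ULift.{v} ℕ => X k.down :=
    Sigma.desc fun n => Sigma.ι (fun k : ULift.{v} ℕ => X k.down) ⟨n⟩
  have hw : w' ≫ w = 𝟙 _ := Sigma.hom_ext _ _ fun n => by simp [w, w']
  obtain ⟨s, hs⟩ := (hK (ULift.{v} ℕ) fun k => X k.down).2 (α ≫ w')
  obtain ⟨t, ht⟩ := exists_homSumToHomCoprod_eq_sum K _ s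
  refine ⟨fun n => s ⟨n⟩, ∑ k ∈ t, Sigma.ι (fun _ : ℕ => K) k.down, ?_⟩
  have : α = CohDer.homSumToHomCoprod K (fun k : ULift.{v} ℕ => X k.down) s ≫ w := by
    rw [hs, Category.assoc, hw, Category.comp_id]
  rw [this, ht, Preadditive.sum_comp, Preadditive.sum_comp]
  refine Finset.sum_congr rfl fun k _ => ?_
  simp [w]

variable [HasZeroObject D] [HasShift D ℤ] [∀ n : ℤ, (shiftFunctor D n).Additive] [Pretriangulated D]

/-- A perfectly generating family from a compactly generated category. -/
theorem exists_perfGen [HasColimitsOfShape (Discrete ℕ) D] (hD : CohDer.IsCompactlyGenerated D) :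
    ∃ (ι : Type v) (E : ι → D), PerfGen E := by
  obtain ⟨ι, E, hc, hg⟩ := hD
  refine ⟨_, _, PerfGen.closure E (fun X hX => ?_) fun X i α => ?_⟩
  · by_contra h
    push Not at h
    exact hX (hg X h)
  · obtain ⟨β, γ, h⟩ := exists_perf_of_compact (E i) (hc i) X α
    exact ⟨fun _ => i, β, γ, h⟩

/-- Brown representability for compactly generated categories. -/
theorem isRepresentable_of_compactlyGenerated (hD : CohDer.IsCompactlyGenerated D)
    (H : Dᵒᵖ ⥤ AddCommGrpCat.{v}) [H.IsHomological]
    [∀ (κ : Type v), PreservesLimitsOfShape (Discrete κ) H] :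
    (H ⋙ forget AddCommGrpCat.{v}).IsRepresentable := by
  have : HasColimitsOfShape (Discrete ℕ) D :=
    hasColimitsOfShape_of_equivalence (Discrete.equivalence (Equiv.ulift.{v} : ULift.{v} ℕ ≃ ℕ))
  obtain ⟨ι, E, hE⟩ := exists_perfGen hD
  exact isRepresentable hE H

end Groth.Agent.Brown
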