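import Groth.Agent.Lib.Brown.Compact
import Mathlib.CategoryTheory.Triangulated.Opposite.Functor
import Mathlib.CategoryTheory.Limits.Preserves.Opposites

/-!
Exact functors commuting with coproducts out of a Brown-representable category are left adjoints.
-/

set_option autoImplicit false

universe v u u'

open CategoryTheory CategoryTheory.Limits CategoryTheory.Pretriangulated
open CategoryTheory.Pretriangulated.Opposite Opposite

namespace Groth.Agent.Brown

variable {D : Type u} [Category.{v} D] [Preadditive D] [HasZeroObject D] [HasShift D ℤ]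
  [∀ n : ℤ, (shiftFunctor D n).Additive] [Pretriangulated D]
  {D' : Type u'} [Category.{v} D'] [Preadditive D'] [HasZeroObject D'] [HasShift D' ℤ]
  [∀ n : ℤ, (shiftFunctor D' n).Additive] [Pretriangulated D']

/-- Existence of a right adjoint from representability. -/
theorem isLeftAdjoint_of_brown
    (hD : ∀ (H : Dᵒᵖ ⥤ AddCommGrpCat.{v}) [H.IsHomological]
      [∀ (κ : Type v), PreservesLimitsOfShape (Discrete κ) H],
      (H ⋙ forget AddCommGrpCat.{v}).IsRepresentable)
    (F : D ⥤ D') [F.CommShift ℤ] [F.IsTriangulated]
    [∀ (κ : Type v), PreservesColimitsOfShape (Discrete κ) F] : F.IsLeftAdjoint := by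
  have : ∀ Y : D', (F.op ⋙ preadditiveYoneda.obj Y ⋙ forget AddCommGrpCat.{v}).IsRepresentable := by
    intro Y
    have : ∀ κ : Type v, PreservesColimitsOfShape (Discrete κ)ᵒᵖ F := fun κ =>
      preservesColimitsOfShape_of_equiv (Discrete.opposite κ).symm F
    have : ∀ κ : Type v, PreservesLimitsOfShape (Discrete κ) F.op := fun κ =>
      preservesLimitsOfShape_op (Discrete κ) F
    exact hD (F.op ⋙ preadditiveYoneda.obj Y)
  choose G r using fun Y => (this Y).has_representation
  exact (Adjunction.adjunctionOfEquivRight (G_obj := G)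
    (fun X Y => ((r Y).some.homEquiv (X := X)).symm)
    (fun X' X Y f g => ((r Y).some.comp_homEquiv_symm g f).symm)).isLeftAdjoint

end Groth.Agent.Brown
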