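import Groth.Agent.Lib.Brown.Tower
import Mathlib.CategoryTheory.Triangulated.Pretriangulated

/-!
Brown representability for perfectly generated triangulated categories.
-/

set_option autoImplicit false

universe v u

open CategoryTheory CategoryTheory.Limits CategoryTheory.Pretriangulated
open CategoryTheory.Pretriangulated.Opposite Opposite

namespace Groth.Agent.Brown

variable {D : Type u} [Category.{v} D] [Preadditive D] [HasZeroObject D] [HasShift D ℤ]
  [∀ n : ℤ, (shiftFunctor D n).Additive] [Pretriangulated D] [HasCoproducts.{v} D]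
  [HasColimitsOfShape (Discrete ℕ) D] {ι : Type v}

/-- Closing a perfectly generating family under shifts. -/
theorem PerfGen.closure (E : ι → D)
    (h1 : ∀ X : D, ¬ IsZero X → ∃ (i : ι) (n : ℤ) (f : E i ⟶ X⟦n⟧), f ≠ 0)
    (h2 : ∀ (X : ℕ → D) (i : ι) (α : E i ⟶ ∐ X), ∃ (j : ℕ → ι) (β : ∀ n, E (j n) ⟶ X n)
      (γ : E i ⟶ ∐ (fun n => E (j n))), α = γ ≫ Limits.Sigma.map β) :
    PerfGen (fun p : ι × ℤ => (E p.1)⟦p.2⟧) where
  gen X hX := by
    obtain ⟨i, n, f, hf⟩ := h1 X hX
    refine ⟨(i, -n), f⟦-n⟧' ≫ (shiftFunctorCompIsoId D n (-n) (add_neg_cancel n)).hom.app X,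
      fun h => hf ?_⟩
    rw [Preadditive.IsIso.comp_right_eq_zero] at h
    exact (shiftFunctor D (-n)).map_injective (h.trans (Functor.map_zero _ _ _).symm)
  perf X := by
    rintro ⟨i, m⟩ α
    let S := shiftFunctor D m
    let Y := fun n => S.objPreimage (X n)
    let e := fun n => S.objObjPreimageIso (X n)
    obtain ⟨α₀, hα₀⟩ := S.map_surjective
      (α ≫ Limits.Sigma.map (fun n => (e n).inv) ≫ sigmaComparison S Y)
    obtain ⟨j, β, γ, rfl⟩ := h2 Y i α₀
    refine ⟨fun n => (j n, m), fun n => S.map (β n) ≫ (e n).hom,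
      S.map γ ≫ inv (sigmaComparison S fun n => E (j n)), ?_⟩
    have h : α = (α ≫ Limits.Sigma.map (fun n => (e n).inv) ≫ sigmaComparison S Y) ≫
        inv (sigmaComparison S Y) ≫ Limits.Sigma.map (fun n => (e n).hom) := by
      simp only [Category.assoc, IsIso.hom_inv_id_assoc]
      rw [show Limits.Sigma.map (fun n => (e n).inv) ≫ Limits.Sigma.map (fun n => (e n).hom) = 𝟙 _
        from Sigma.hom_ext _ _ fun n => by simp, Category.comp_id]
    have comm : S.map (Limits.Sigma.map β) ≫ inv (sigmaComparison S Y) =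
        inv (sigmaComparison S fun n => E (j n)) ≫ Limits.Sigma.map (fun n => S.map (β n)) := by
      rw [IsIso.comp_inv_eq, Category.assoc, IsIso.eq_inv_comp]
      refine Sigma.hom_ext _ _ fun n => ?_
      simp [← Functor.map_comp]
    refine h.trans ((congrArg (fun z => z ≫ inv (sigmaComparison S Y) ≫
      Limits.Sigma.map (fun n => (e n).hom)) hα₀).symm.trans ?_)
    simp only [Functor.map_comp, Category.assoc, reassoc_of% comm]
    refine congrArg (fun z => S.map γ ≫ inv (sigmaComparison S fun n => E (j n)) ≫ z) ?_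
    exact Sigma.hom_ext _ _ fun n => by simp
  shift := by
    rintro ⟨i, m⟩ n
    exact ⟨(i, m + n), ⟨(shiftFunctorAdd D m n).app (E i)⟩⟩

variable {E : ι → D} (hE : PerfGen E) (H : Dᵒᵖ ⥤ AddCommGrpCat.{v}) [H.IsHomological]
  [∀ (κ : Type v), PreservesLimitsOfShape (Discrete κ) H]

include hE

/-- An object representing `H` on the generators, in any class containing the generators and closed
under coproducts and cones. -/
theorem exists_rep (S : D → Prop) (hS : ∀ i, S (E i))
    (hc : ∀ (κ : Type v) (Y : κ → D), (∀ k, S (Y k)) → S (∐ Y))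
    (hiso : ∀ A B : D, (A ≅ B) → S A → S B)
    (hcone : ∀ T : Triangle D, T ∈ distTriang D → S T.obj₁ → S T.obj₂ → S T.obj₃) :
    ∃ (X : D) (x : H.obj (op X)), S X ∧ ∀ i, Rep H x (E i) := by
  obtain ⟨τ, hτ⟩ := exists_tower E H S hS hc hcone
  have : PreservesLimitsOfShape (Discrete ℕ) H :=
    preservesLimitsOfShape_of_equiv (Discrete.equivalence (Equiv.ulift.{v} : ULift.{v} ℕ ≃ ℕ)) H
  exact τ.exists_rep_on_generators hE S
    (hiso _ _ (Sigma.whiskerEquiv (f := fun k : ULift.{v} ℕ => τ.X k.down) (g := τ.X) Equiv.ulift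
      fun _ => Iso.refl _) (hc _ _ fun k => hτ k.down)) hcone

/-- Brown representability. -/
theorem isRepresentable : (H ⋙ forget AddCommGrpCat.{v}).IsRepresentable := by
  obtain ⟨X, x, -, hx⟩ := exists_rep hE H (fun _ => True) (fun _ => trivial)
    (fun _ _ _ => trivial) (fun _ _ _ _ => trivial) (fun _ _ _ _ => trivial)
  let S : D → Prop := fun Y => ∀ n : ℤ, Rep H x (Y⟦n⟧)
  have hSiso : ∀ A B : D, (A ≅ B) → S A → S B := fun A B e h n =>
    (h n).of_iso H ((shiftFunctor D n).mapIso e)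
  have hS : ∀ i, S (E i) := fun i n => by
    obtain ⟨i', ⟨e⟩⟩ := hE.shift i n
    exact (hx i').of_iso H e
  have hc : ∀ (κ : Type v) (Y : κ → D), (∀ k, S (Y k)) → S (∐ Y) := fun κ Y h n =>
    (Rep.coproduct H (fun k => (Y k)⟦n⟧) fun k => h k n).of_iso H
      (PreservesCoproduct.iso (shiftFunctor D n) Y).symm
  have hcone : ∀ T : Triangle D, T ∈ distTriang D → S T.obj₁ → S T.obj₂ → S T.obj₃ :=
    fun T hT h₁ h₂ n => Rep.cone H _ (Triangle.shift_distinguished T hT n) (h₁ n) (h₂ n)
      ((h₁ (n + 1)).of_iso H ((shiftFunctorAdd D n 1).app _))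
      ((h₂ (n + 1)).of_iso H ((shiftFunctorAdd D n 1).app _))
  have hall : ∀ Y : D, Rep H x Y := fun Y => by
    obtain ⟨X', y, hX', hy⟩ := exists_rep hE (preadditiveYoneda.obj Y) S hS hc hSiso hcone
    change X' ⟶ Y at y
    have hbij : ∀ i, Function.Bijective (fun f : E i ⟶ X' => f ≫ y) := hy
    obtain ⟨Z, q, r, hT⟩ := distinguished_cocone_triangle y
    have hZ : IsZero Z := by
      by_contra hne
      obtain ⟨i, f, hf⟩ := hE.gen Z hne
      apply hf
      have hr : f ≫ r = 0 := by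
        obtain ⟨i', ⟨e⟩⟩ := hE.shift i (-1)
        let e' : (E i')⟦(1 : ℤ)⟧ ≅ E i := (shiftFunctor D (1 : ℤ)).mapIso e ≪≫
          (shiftFunctorCompIsoId D (-1 : ℤ) 1 (by omega)).app (E i)
        obtain ⟨a, ha⟩ := (shiftFunctor D (1 : ℤ)).map_surjective (X := E i') (Y := X') (e'.hom ≫ f ≫ r)
        have h31 : r ≫ y⟦(1 : ℤ)⟧' = 0 := comp_distTriang_mor_zero₃₁ _ hT
        have hay : a ≫ y = 0 := (shiftFunctor D (1 : ℤ)).map_injective (by
          rw [Functor.map_comp, ha, Functor.map_zero, Category.assoc, Category.assoc]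
          exact (congrArg (fun m => e'.hom ≫ f ≫ m) h31).trans (by rw [comp_zero, comp_zero]))
        have ha0 : a = 0 := (hbij i').1 (hay.trans zero_comp.symm)
        rw [ha0, Functor.map_zero] at ha
        exact (Preadditive.IsIso.comp_left_eq_zero _ _).1 ha.symm
      obtain ⟨b, hb⟩ : ∃ b : E i ⟶ Y, f = b ≫ q := Triangle.coyoneda_exact₃ _ hT f hr
      obtain ⟨c, rfl⟩ := (hbij i).2 b
      have h12 : y ≫ q = 0 := comp_distTriang_mor_zero₁₂ _ hT
      rw [hb]
      change (c ≫ y) ≫ q = 0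
      rw [Category.assoc, h12, comp_zero]
    have : IsIso y := (Triangle.isZero₃_iff_isIso₁ _ hT).1 hZ
    exact ((hSiso _ _ (asIso y) hX') 0).of_iso H ((shiftFunctorZero D ℤ).app Y)
  exact Functor.RepresentableBy.isRepresentable (Y := X)
    { homEquiv := fun {A} => Equiv.ofBijective _ (hall A)
      homEquiv_comp := fun f g => pb_comp H f g x }

end Groth.Agent.Brown
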