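import Mathlib.CategoryTheory.Triangulated.Yoneda
import Mathlib.CategoryTheory.Triangulated.TriangleShift
import Mathlib.CategoryTheory.Triangulated.Opposite.Pretriangulated
import Mathlib.CategoryTheory.Triangulated.HomologicalFunctor
import Mathlib.CategoryTheory.Limits.Shapes.Opposites.Products
import Mathlib.CategoryTheory.Limits.Preserves.Shapes.Products
import Mathlib.CategoryTheory.Preadditive.Yoneda.Limits
import Mathlib.Algebra.Category.Grp.Limits

/-!
Contravariant homological functors to abelian groups on a pretriangulated category, elementwise.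
-/

set_option autoImplicit false

universe w v u

open CategoryTheory CategoryTheory.Limits CategoryTheory.Pretriangulated
open CategoryTheory.Pretriangulated.Opposite Opposite

namespace Groth.Agent.Brown

variable {D : Type u} [Category.{v} D] [Preadditive D] [HasZeroObject D] [HasShift D ℤ]
  [∀ n : ℤ, (shiftFunctor D n).Additive] [Pretriangulated D]
variable (H : Dᵒᵖ ⥤ AddCommGrpCat.{v})

/-- Pulling back an element along a morphism. -/
noncomputable def pb {X Y : D} (f : X ⟶ Y) : H.obj (op Y) →+ H.obj (op X) := (H.map f.op).hom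

@[simp]
theorem pb_id {X : D} (x : H.obj (op X)) : pb H (𝟙 X) x = x := by
  simp [pb]

@[simp]
theorem pb_comp {X Y Z : D} (f : X ⟶ Y) (g : Y ⟶ Z) (z : H.obj (op Z)) :
    pb H (f ≫ g) z = pb H f (pb H g z) := by
  simp [pb]

variable [H.IsHomological]

theorem pb_add {X Y : D} (f g : X ⟶ Y) (y : H.obj (op Y)) :
    pb H (f + g) y = pb H f y + pb H g y := by
  simp only [pb, op_add, H.map_add]
  rfl

/-- Evaluation of morphisms on a fixed element. -/
noncomputable def ev {X : D} (x : H.obj (op X)) (A : D) : (A ⟶ X) →+ H.obj (op A) :=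
  AddMonoidHom.mk' (fun f => pb H f x) fun f g => pb_add H f g x

@[simp]
theorem ev_apply {X A : D} (x : H.obj (op X)) (f : A ⟶ X) : ev H x A f = pb H f x := rfl

@[simp]
theorem pb_zero {X Y : D} (y : H.obj (op Y)) : pb H (0 : X ⟶ Y) y = 0 :=
  (ev H y X).map_zero

theorem pb_sub {X Y : D} (f g : X ⟶ Y) (y : H.obj (op Y)) :
    pb H (f - g) y = pb H f y - pb H g y :=
  (ev H y X).map_sub f g

theorem exists_pb_of_distinguished (T : Triangle D) (hT : T ∈ distTriang D)
    (y : H.obj (op T.obj₂)) (hy : pb H T.mor₁ y = 0) :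
    ∃ z, pb H T.mor₂ z = y := by
  have h := H.map_distinguished_op_exact T hT
  rw [ShortComplex.ab_exact_iff] at h
  exact h y hy

theorem pb_comp_distinguished (T : Triangle D) (hT : T ∈ distTriang D)
    (z : H.obj (op T.obj₃)) : pb H T.mor₁ (pb H T.mor₂ z) = 0 := by
  rw [← pb_comp, comp_distTriang_mor_zero₁₂ T hT, pb_zero]

/-- The universal element `x` represents `H` on `A`. -/
def Rep {X : D} (x : H.obj (op X)) (A : D) : Prop := Function.Bijective (ev H x A)

theorem Rep.of_iso {X : D} {x : H.obj (op X)} {A B : D} (h : Rep H x A) (e : A ≅ B) :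
    Rep H x B := by
  constructor
  · intro f g hfg
    rw [← cancel_epi e.hom]
    apply h.1
    simp only [ev_apply, pb_comp] at hfg ⊢
    rw [hfg]
  · intro b
    obtain ⟨f, hf⟩ := h.2 (pb H e.hom b)
    refine ⟨e.inv ≫ f, ?_⟩
    simp only [ev_apply, pb_comp] at hf ⊢
    rw [hf, ← pb_comp, e.inv_hom_id, pb_id]

/-- The five lemma. -/
theorem Rep.cone {X : D} {x : H.obj (op X)} (T : Triangle D) (hT : T ∈ distTriang D)
    (h₁ : Rep H x T.obj₁) (h₂ : Rep H x T.obj₂) (h₁' : Rep H x (T.obj₁⟦(1 : ℤ)⟧))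
    (h₂' : Rep H x (T.obj₂⟦(1 : ℤ)⟧)) : Rep H x T.obj₃ := by
  have hR := rot_of_distTriang _ hT
  have hRR := rot_of_distTriang _ hR
  constructor
  · rw [injective_iff_map_eq_zero]
    intro f hf
    have hgf : T.mor₂ ≫ f = 0 := by
      apply h₂.1
      rw [ev_apply, pb_comp, map_zero, show pb H f x = 0 from hf, map_zero]
    obtain ⟨f', rfl⟩ := Triangle.yoneda_exact₃ T hT f hgf
    rw [ev_apply, pb_comp] at hf
    obtain ⟨y, hy⟩ := exists_pb_of_distinguished H T.rotate.rotate hRR (pb H f' x) hf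
    change pb H (-(T.mor₁⟦(1 : ℤ)⟧')) y = pb H f' x at hy
    obtain ⟨k, rfl⟩ := h₂'.2 y
    rw [ev_apply, ← pb_comp] at hy
    obtain rfl := h₁'.1 hy
    rw [← Category.assoc, Preadditive.comp_neg]
    simp [comp_distTriang_mor_zero₃₁_assoc _ hT]
  · intro z
    obtain ⟨b, hb⟩ := h₂.2 (pb H T.mor₂ z)
    have hab : T.mor₁ ≫ b = 0 := by
      apply h₁.1
      rw [ev_apply, pb_comp, map_zero, show pb H b x = _ from hb, pb_comp_distinguished H T hT]
    obtain ⟨f, rfl⟩ := Triangle.yoneda_exact₂ T hT b hab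
    rw [ev_apply, pb_comp] at hb
    obtain ⟨a, ha⟩ := exists_pb_of_distinguished H T.rotate hR (z - pb H f x) (by
      change pb H T.mor₂ (z - pb H f x) = 0
      rw [map_sub, hb, sub_self])
    obtain ⟨a', rfl⟩ := h₁'.2 a
    refine ⟨f + T.mor₃ ≫ a', ?_⟩
    rw [map_add]
    change pb H f x + pb H (T.mor₃ ≫ a') x = z
    rw [pb_comp]
    change pb H T.mor₃ (pb H a' x) = z - pb H f x at ha
    rw [ha]
    abel

section Coproducts

variable {κ : Type w} (Y : κ → D) [HasCoproduct Y]
  [PreservesLimitsOfShape (Discrete κ) H]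

theorem bijective_pb_coproduct :
    Function.Bijective (fun (z : H.obj (op (∐ Y))) k => pb H (Sigma.ι Y k) z) := by
  have hl := isLimitFanMkObjOfIsLimit H (fun k => op (Y k)) (fun k => (Sigma.ι Y k).op)
    (Cofan.IsColimit.op (coproductIsCoproduct Y))
  let el {A : AddCommGrpCat.{v}} (a : A) : AddCommGrpCat.of (ULift.{v} ℤ) ⟶ A :=
    AddCommGrpCat.ofHom ((zmultiplesHom A a).comp AddEquiv.ulift.toAddMonoidHom)
  have hel : ∀ {A : AddCommGrpCat.{v}} (a : A), (el a).hom ⟨1⟩ = a := fun a => one_zsmul a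
  constructor
  · intro z z' h
    rw [← hel z, ← hel z']
    refine ConcreteCategory.congr_hom (hl.hom_ext fun ⟨k⟩ => ?_) _
    ext ⟨n⟩
    exact ((map_zsmul (pb H (Sigma.ι Y k)) n z).trans
      ((congrArg (n • ·) (congrFun h k)).trans (map_zsmul (pb H (Sigma.ι Y k)) n z').symm))
  · intro y
    refine ⟨(hl.lift (Fan.mk _ fun k => el (y k))).hom ⟨1⟩, funext fun k => ?_⟩
    exact (ConcreteCategory.congr_hom (hl.fac (Fan.mk _ fun k => el (y k)) ⟨k⟩) ⟨1⟩).trans (hel (y k))

theorem exists_pb_coproduct (y : ∀ k, H.obj (op (Y k))) :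
    ∃ z : H.obj (op (∐ Y)), ∀ k, pb H (Sigma.ι Y k) z = y k := by
  obtain ⟨z, hz⟩ := (bijective_pb_coproduct H Y).2 y
  exact ⟨z, congrFun hz⟩

theorem pb_coproduct_ext {z z' : H.obj (op (∐ Y))}
    (h : ∀ k, pb H (Sigma.ι Y k) z = pb H (Sigma.ι Y k) z') : z = z' :=
  (bijective_pb_coproduct H Y).1 (funext h)

theorem Rep.coproduct {X : D} {x : H.obj (op X)}
    (h : ∀ k, Rep H x (Y k)) : Rep H x (∐ Y) := by
  constructor
  · intro f g hfg
    refine Sigma.hom_ext _ _ fun k => (h k).1 ?_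
    simp only [ev_apply, pb_comp] at hfg ⊢
    rw [hfg]
  · intro z
    choose f hf using fun k => (h k).2 (pb H (Sigma.ι Y k) z)
    refine ⟨Sigma.desc f, pb_coproduct_ext H Y fun k => ?_⟩
    rw [ev_apply, ← pb_comp, Sigma.ι_desc]
    exact hf k

end Coproducts

end Groth.Agent.Brown
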