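import Groth.Prelude.Def_CohDer
import Mathlib.CategoryTheory.Triangulated.Generators
import Mathlib.CategoryTheory.Triangulated.Orthogonal

/-!
An object whose envelope is everything, or contains a generating family, generates.
-/

set_option autoImplicit false

universe w v u

open CategoryTheory CategoryTheory.Limits CategoryTheory.Pretriangulated

namespace Groth.Agent.Brown

variable {D : Type u} [Category.{v} D] [Preadditive D] [HasZeroObject D] [HasShift D ℤ]
  [∀ n : ℤ, (shiftFunctor D n).Additive] [Pretriangulated D]

theorem leftOrthogonal_isStableUnderRetracts (P : ObjectProperty D) :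
    P.leftOrthogonal.IsStableUnderRetracts where
  of_retract r h Z f hZ := by
    rw [← Category.id_comp f, ← r.retract, Category.assoc, h (r.r ≫ f) hZ, comp_zero]

/-- Objects in the envelope see no nonzero morphisms into an object right orthogonal to the
generators. -/
theorem eq_zero_of_mem_envelope [IsTriangulated D] (P : ObjectProperty D) (K : D)
    (h : ∀ A : D, P A → ∀ (n : ℤ) (f : A ⟶ K⟦n⟧), f = 0) {A : D} (hA : P.triangEnvelope A)
    (f : A ⟶ K) : f = 0 := by
  let S := (ObjectProperty.singleton K).shiftClosure ℤ
  have := leftOrthogonal_isStableUnderRetracts S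
  have hle : P ≤ S.leftOrthogonal := by
    intro B hB Z g hZ
    obtain ⟨Y, n, e, hY⟩ := hZ
    obtain rfl := (ObjectProperty.singleton_iff _ _).1 hY
    exact (cancel_mono e.hom).1 ((h B hB n _).trans zero_comp.symm)
  exact (ObjectProperty.triangEnvelope_le_iff P).2 hle A hA f
    (ObjectProperty.le_shiftClosure _ _ ((ObjectProperty.singleton_iff _ _).2 rfl))

end Groth.Agent.Brown
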