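import Groth.Agent.Lib.Brown.Basic

/-!
The tower approximating a contravariant homological functor by a perfectly generating family, and
its homotopy colimit.
-/

set_option autoImplicit false

universe v u

open CategoryTheory CategoryTheory.Limits CategoryTheory.Pretriangulated
open CategoryTheory.Pretriangulated.Opposite Opposite

namespace Groth.Agent.Brown

variable {D : Type u} [Category.{v} D] [Preadditive D] [HasZeroObject D] [HasShift D ℤ]
  [∀ n : ℤ, (shiftFunctor D n).Additive] [Pretriangulated D] [HasColimitsOfShape (Discrete ℕ) D]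

/-- Shift on a constant countable coproduct. -/
noncomputable abbrev cshift (A : D) : (∐ fun _ : ℕ => A) ⟶ ∐ fun _ : ℕ => A :=
  Sigma.desc fun n => Sigma.ι (fun _ : ℕ => A) (n + 1)

/-- The components of the retraction of `1 - shift`. -/
noncomputable def cretrComp (A : D) : ℕ → (A ⟶ ∐ fun _ : ℕ => A)
  | 0 => 0
  | n + 1 => cretrComp A n - Sigma.ι (fun _ : ℕ => A) n

/-- The retraction of `1 - shift`. -/
noncomputable abbrev cretr (A : D) : (∐ fun _ : ℕ => A) ⟶ ∐ fun _ : ℕ => A :=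
  Sigma.desc (cretrComp A)

theorem cshift_cretr (A : D) : (𝟙 _ - cshift A) ≫ cretr A = 𝟙 _ := by
  refine Sigma.hom_ext _ _ fun n => ?_
  simp [cretrComp]

theorem cretr_cshift (A : D) : cretr A ≫ (𝟙 _ - cshift A) =
    𝟙 _ - Sigma.desc (fun _ => Sigma.ι (fun _ : ℕ => A) 0) := by
  refine Sigma.hom_ext _ _ fun n => ?_
  induction n with
  | zero => simp [cretrComp]
  | succ n ih =>
    simp only [Sigma.ι_desc_assoc, cretrComp, Preadditive.sub_comp, Preadditive.comp_sub,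
      Category.comp_id, Sigma.ι_desc] at ih ⊢
    rw [show cretrComp A n ≫ cshift A =
      cretrComp A n - (Sigma.ι (fun _ => A) n - Sigma.ι (fun _ => A) 0) from by rw [← ih]; abel]
    abel

variable [HasCoproducts.{v} D]

/-- A perfectly generating family, closed under shifts up to isomorphism. -/
structure PerfGen {ι : Type v} (E : ι → D) : Prop where
  gen : ∀ X : D, ¬ IsZero X → ∃ (i : ι) (f : E i ⟶ X), f ≠ 0
  perf : ∀ (X : ℕ → D) (i : ι) (α : E i ⟶ ∐ X), ∃ (j : ℕ → ι) (β : ∀ n, E (j n) ⟶ X n)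
    (γ : E i ⟶ ∐ (fun n => E (j n))), α = γ ≫ Limits.Sigma.map β
  shift : ∀ (i : ι) (n : ℤ), ∃ i', Nonempty (E i' ≅ (E i)⟦n⟧)

variable {ι : Type v} (E : ι → D) (hE : PerfGen E)

include hE in
/-- Maps into a coproduct killed by a coproduct of maps factor through componentwise kernels. -/
theorem exists_factor {Y Z : ℕ → D} (g : ∀ n, Y n ⟶ Z n) {i : ι} (p : E i ⟶ ∐ Y)
    (hp : p ≫ Limits.Sigma.map g = 0) :
    ∃ (j : ℕ → ι) (c : ∀ n, E (j n) ⟶ Y n) (γ : E i ⟶ ∐ fun n => E (j n)),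
      (∀ n, c n ≫ g n = 0) ∧ p = γ ≫ Limits.Sigma.map c := by
  choose K k δ hT using fun n => distinguished_cocone_triangle₁ (g n)
  obtain ⟨W, w, w', hW⟩ := distinguished_cocone_triangle (Limits.Sigma.map k)
  have hφ : ∀ n, ∃ φ : Z n ⟶ W, Sigma.ι Y n ≫ w = g n ≫ φ := fun n => by
    obtain ⟨φ, hφ, -⟩ := complete_distinguished_triangle_morphism _ _ (hT n) hW
      (Sigma.ι K n) (Sigma.ι Y n) (Sigma.ι_map k n).symm
    exact ⟨φ, hφ.symm⟩
  choose φ hφ using hφ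
  have hw : w = Limits.Sigma.map g ≫ Sigma.desc φ := by
    refine Sigma.hom_ext _ _ fun n => ?_
    rw [Sigma.ι_map_assoc, Sigma.ι_desc]
    exact hφ n
  obtain ⟨q, hq⟩ := Triangle.coyoneda_exact₂ _ hW p (by
    change p ≫ w = 0
    rw [hw, reassoc_of% hp, zero_comp])
  obtain ⟨j, c, γ, rfl⟩ := hE.perf K i q
  refine ⟨j, fun n => c n ≫ k n, γ, fun n => ?_, ?_⟩
  · rw [Category.assoc]
    exact (congrArg (c n ≫ ·) (comp_distTriang_mor_zero₁₂ _ (hT n))).trans comp_zero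
  · refine hq.trans ?_
    change (γ ≫ Limits.Sigma.map c) ≫ Limits.Sigma.map k = _
    rw [Category.assoc]
    congr 1
    refine Sigma.hom_ext _ _ fun n => ?_
    simp

/-- The data of the tower. -/
structure Tower (H : Dᵒᵖ ⥤ AddCommGrpCat.{v}) where
  X : ℕ → D
  x : ∀ n, H.obj (op (X n))
  t : ∀ n, X n ⟶ X (n + 1)
  x_t : ∀ n, pb H (t n) (x (n + 1)) = x n
  kill : ∀ (n : ℕ) (i : ι) (f : E i ⟶ X n), pb H f (x n) = 0 → f ≫ t n = 0
  surj : ∀ (i : ι) (h : H.obj (op (E i))), ∃ b : E i ⟶ X 0, pb H b (x 0) = h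

variable (H : Dᵒᵖ ⥤ AddCommGrpCat.{v}) [H.IsHomological]
  [∀ (κ : Type v), PreservesLimitsOfShape (Discrete κ) H]

/-- A tower exists, and it can be built inside any class of objects containing the generators and
closed under coproducts and cones. -/
theorem exists_tower (S : D → Prop) (hS : ∀ i, S (E i))
    (hc : ∀ (κ : Type v) (Y : κ → D), (∀ k, S (Y k)) → S (∐ Y))
    (hcone : ∀ T : Triangle D, T ∈ distTriang D → S T.obj₁ → S T.obj₂ → S T.obj₃) :
    ∃ τ : Tower E H, ∀ n, S (τ.X n) := by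
  obtain ⟨x₀, hx₀⟩ := exists_pb_coproduct H (fun p : Σ i, H.obj (op (E i)) => E p.1) (fun p => p.2)
  have step : ∀ s : Σ X : {X : D // S X}, H.obj (op X.1), ∃ (s' : Σ X : {X : D // S X}, H.obj (op X.1))
      (t : s.1.1 ⟶ s'.1.1), pb H t s'.2 = s.2 ∧
      ∀ (i : ι) (f : E i ⟶ s.1.1), pb H f s.2 = 0 → f ≫ t = 0 := by
    rintro ⟨⟨X, hX⟩, x⟩
    let Y := fun p : {p : Σ i, (E i ⟶ X) // pb H p.2 x = 0} => E p.1.1
    let k : ∐ Y ⟶ X := Sigma.desc fun p => p.1.2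
    obtain ⟨X', t, δ, hT⟩ := distinguished_cocone_triangle k
    obtain ⟨x', hx'⟩ := exists_pb_of_distinguished H _ hT x (pb_coproduct_ext H Y fun p => by
      change pb H (Sigma.ι Y p) (pb H k x) = pb H (Sigma.ι Y p) 0
      rw [map_zero, ← pb_comp, Sigma.ι_desc]
      exact p.2)
    refine ⟨⟨⟨X', hcone _ hT (hc _ Y fun p => hS _) hX⟩, x'⟩, t, hx', fun i f hf => ?_⟩
    have h : f = Sigma.ι Y ⟨⟨i, f⟩, hf⟩ ≫ k := by simp [k]
    rw [h, Category.assoc]
    exact (congrArg _ (comp_distTriang_mor_zero₁₂ _ hT)).trans comp_zero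
  choose next t ht hk using step
  let s : ℕ → Σ X : {X : D // S X}, H.obj (op X.1) := fun n =>
    Nat.rec ⟨⟨∐ _, hc _ _ fun p : Σ i, H.obj (op (E i)) => hS p.1⟩, x₀⟩ (fun _ a => next a) n
  exact ⟨{ X := fun n => (s n).1.1, x := fun n => (s n).2, t := fun n => t (s n),
           x_t := fun n => ht (s n), kill := fun n => hk (s n),
           surj := fun i h => ⟨Sigma.ι (fun p : Σ i, H.obj (op (E i)) => E p.1) ⟨i, h⟩, hx₀ ⟨i, h⟩⟩ },
    fun n => (s n).1.2⟩

variable {E} {H}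
variable (τ : Tower E H)

namespace Tower

/-- The composite from the bottom. -/
noncomputable def T : ∀ n, τ.X 0 ⟶ τ.X n
  | 0 => 𝟙 _
  | n + 1 => T n ≫ τ.t n

omit [H.IsHomological] [∀ (κ : Type v), PreservesLimitsOfShape (Discrete κ) H] in
theorem pb_T (n : ℕ) : pb H (τ.T n) (τ.x n) = τ.x 0 := by
  induction n with
  | zero => exact pb_id H _
  | succ n ih => rw [T, pb_comp, τ.x_t, ih]

omit [H.IsHomological] [∀ (κ : Type v), PreservesLimitsOfShape (Discrete κ) H] in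
theorem T_kill {i : ι} (c : E i ⟶ τ.X 0) (hc : pb H c (τ.x 0) = 0) (n : ℕ) :
    c ≫ τ.T (n + 1) = 0 := by
  induction n with
  | zero => simpa [T] using τ.kill 0 i c hc
  | succ n ih => rw [T, ← Category.assoc, ih, zero_comp]

/-- The telescope endomorphism. -/
noncomputable abbrev σ : ∐ τ.X ⟶ ∐ τ.X := Sigma.desc fun n => τ.t n ≫ Sigma.ι τ.X (n + 1)

/-- `1 - σ`. -/
noncomputable abbrev d : ∐ τ.X ⟶ ∐ τ.X := 𝟙 _ - τ.σ

/-- From the constant tower on the bottom. -/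
noncomputable abbrev J : (∐ fun _ : ℕ => τ.X 0) ⟶ ∐ τ.X :=
  Sigma.desc fun n => τ.T (n + 1) ≫ Sigma.ι τ.X (n + 1)

omit [H.IsHomological] [∀ (κ : Type v), PreservesLimitsOfShape (Discrete κ) H] in
theorem cshift_J : cshift (τ.X 0) ≫ τ.J = τ.J ≫ τ.σ := by
  refine Sigma.hom_ext _ _ fun n => ?_
  simp [T]

omit [H.IsHomological] [∀ (κ : Type v), PreservesLimitsOfShape (Discrete κ) H] in
theorem one_sub_cshift_J : (𝟙 _ - cshift (τ.X 0)) ≫ τ.J = τ.J ≫ τ.d := by
  simp only [d, Preadditive.sub_comp, Preadditive.comp_sub, Category.id_comp, Category.comp_id,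
    cshift_J]

variable (hE : PerfGen E)

include hE in
omit [∀ (κ : Type v), PreservesLimitsOfShape (Discrete κ) H] in
theorem exists_lift {i : ι} (α : E i ⟶ ∐ τ.X) :
    ∃ p : E i ⟶ ∐ fun _ : ℕ => τ.X 0, α ≫ τ.σ = p ≫ τ.J := by
  obtain ⟨j, β, γ, rfl⟩ := hE.perf τ.X i α
  choose b hb using fun n => τ.surj (j n) (pb H (β n) (τ.x n))
  refine ⟨γ ≫ Limits.Sigma.map b, ?_⟩
  simp only [Category.assoc]
  congr 1
  refine Sigma.hom_ext _ _ fun n => ?_
  have h := τ.kill n (j n) (β n - b n ≫ τ.T n) (by rw [pb_sub, pb_comp, pb_T, hb, sub_self])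
  rw [Preadditive.sub_comp, sub_eq_zero, Category.assoc] at h
  simp [reassoc_of% h, T]

include hE in
omit [∀ (κ : Type v), PreservesLimitsOfShape (Discrete κ) H] in
theorem comp_d_eq_zero {i : ι} (α : E i ⟶ ∐ τ.X) (hα : α ≫ τ.d = 0) : α = 0 := by
  obtain ⟨p, hp⟩ := τ.exists_lift hE α
  simp only [d, Preadditive.comp_sub, Category.comp_id, sub_eq_zero] at hα
  let q := p ≫ (𝟙 _ - cshift (τ.X 0))
  let π : ∐ τ.X ⟶ ∐ fun n => τ.X (n + 1) :=
    Sigma.desc fun | 0 => 0 | n + 1 => Sigma.ι (fun n => τ.X (n + 1)) n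
  have hq : q ≫ τ.J = 0 := by
    rw [Category.assoc, one_sub_cshift_J, ← Category.assoc, ← hp, ← hα]
    simp [← hα]
  have hq' : q ≫ Limits.Sigma.map (fun n => τ.T (n + 1)) = 0 := by
    have e : τ.J ≫ π = Limits.Sigma.map (fun n => τ.T (n + 1)) := by
      refine Sigma.hom_ext _ _ fun n => ?_
      simp [π]
    rw [← e, ← Category.assoc, hq, zero_comp]
  obtain ⟨j, c, γ, hc, hqc⟩ := exists_factor E hE _ q hq'
  have hc0 : ∀ n m, c n ≫ τ.T (m + 1) = 0 := fun n => τ.T_kill (c n) (by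
    rw [← τ.pb_T (n + 1), ← pb_comp, hc, pb_zero])
  have hcr : ∀ n m, c n ≫ cretrComp (τ.X 0) m ≫ τ.J = 0 := fun n m => by
    induction m with
    | zero => simp [cretrComp]
    | succ m ih => simp [cretrComp, Preadditive.sub_comp, Preadditive.comp_sub, ih, reassoc_of% (hc0 n m)]
  have hp' : p = q ≫ cretr (τ.X 0) := by
    rw [Category.assoc, cshift_cretr, Category.comp_id]
  rw [hα, hp, hp', hqc]
  simp only [Category.assoc]
  rw [show Limits.Sigma.map c ≫ cretr (τ.X 0) ≫ τ.J = 0 from Sigma.hom_ext _ _ fun n => by simp [hcr]]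
  exact comp_zero

include hE in
omit [∀ (κ : Type v), PreservesLimitsOfShape (Discrete κ) H] in
theorem exists_comp_d {i : ι} (α : E i ⟶ ∐ τ.X) (z : H.obj (op (∐ τ.X)))
    (hz : ∀ n, pb H (Sigma.ι τ.X n) z = τ.x n) (hα : pb H α z = 0)
    (hzσ : pb H τ.σ z = z) (hzJ : pb H τ.J z = pb H (Sigma.desc fun _ => 𝟙 (τ.X 0)) (τ.x 0)) :
    ∃ α', α = α' ≫ τ.d := by
  obtain ⟨p, hp⟩ := τ.exists_lift hE α
  let fold := p ≫ Sigma.desc fun _ => 𝟙 (τ.X 0)
  have h0 : fold ≫ τ.T 1 = 0 := τ.T_kill fold (by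
    rw [pb_comp, ← hzJ, ← pb_comp, ← hp, pb_comp, hzσ, hα]) 0
  refine ⟨α + p ≫ cretr (τ.X 0) ≫ τ.J, ?_⟩
  have e : cretr (τ.X 0) ≫ τ.J ≫ τ.d = τ.J -
      (Sigma.desc fun _ => 𝟙 (τ.X 0)) ≫ τ.T 1 ≫ Sigma.ι τ.X 1 := by
    rw [← one_sub_cshift_J, ← Category.assoc, cretr_cshift, Preadditive.sub_comp, Category.id_comp]
    congr 1
    refine Sigma.hom_ext _ _ fun n => ?_
    simp
  rw [Preadditive.add_comp, Category.assoc, Category.assoc, e, Preadditive.comp_sub]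
  rw [Preadditive.comp_sub, ← Category.assoc p _ (τ.T 1 ≫ _), show p ≫ Sigma.desc (fun _ => 𝟙 (τ.X 0)) = fold from rfl,
    reassoc_of% h0, zero_comp, sub_zero]
  simp [d, Preadditive.comp_sub, hp]

include hE in
/-- The homotopy colimit of the tower represents `H` on the generators. -/
theorem exists_rep_on_generators [PreservesLimitsOfShape (Discrete ℕ) H] (S : D → Prop)
    (hsum : S (∐ τ.X)) (hcone : ∀ T : Triangle D, T ∈ distTriang D → S T.obj₁ → S T.obj₂ → S T.obj₃) :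
    ∃ (X : D) (x : H.obj (op X)), S X ∧ ∀ i, Rep H x (E i) := by
  obtain ⟨z, hz⟩ := exists_pb_coproduct H τ.X τ.x
  have hzσ : pb H τ.σ z = z := pb_coproduct_ext H τ.X fun n => by
    rw [← pb_comp, Sigma.ι_desc, pb_comp, hz, τ.x_t, hz]
  have hzJ : pb H τ.J z = pb H (Sigma.desc fun _ => 𝟙 (τ.X 0)) (τ.x 0) :=
    pb_coproduct_ext H _ fun n => by
      rw [← pb_comp, ← pb_comp, Sigma.ι_desc, Sigma.ι_desc, pb_comp, hz, pb_T, pb_id]
  obtain ⟨X, π, δ, hT⟩ := distinguished_cocone_triangle τ.d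
  obtain ⟨x, hx⟩ : ∃ x : H.obj (op X), pb H π x = z := exists_pb_of_distinguished H _ hT z (by
    change pb H τ.d z = 0
    rw [pb_sub, pb_id, hzσ, sub_self])
  refine ⟨X, x, hcone _ hT hsum hsum, fun i => ⟨?_, fun h => ?_⟩⟩
  · rw [injective_iff_map_eq_zero]
    intro f hf
    have hfδ : f ≫ δ = 0 := by
      obtain ⟨i', ⟨e⟩⟩ := hE.shift i (-1)
      let e' : (E i')⟦(1 : ℤ)⟧ ≅ E i := (shiftFunctor D (1 : ℤ)).mapIso e ≪≫
        (shiftFunctorCompIsoId D (-1 : ℤ) 1 (by omega)).app (E i)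
      obtain ⟨a, ha⟩ := (shiftFunctor D (1 : ℤ)).map_surjective (X := E i') (Y := ∐ τ.X) (e'.hom ≫ f ≫ δ)
      have h31 : δ ≫ τ.d⟦(1 : ℤ)⟧' = 0 := comp_distTriang_mor_zero₃₁ _ hT
      have had : a ≫ τ.d = 0 := (shiftFunctor D (1 : ℤ)).map_injective (by
        rw [Functor.map_comp, ha, Functor.map_zero, Category.assoc, Category.assoc]
        exact (congrArg (fun m => e'.hom ≫ f ≫ m) h31).trans (by rw [comp_zero, comp_zero]))
      rw [τ.comp_d_eq_zero hE a had, Functor.map_zero] at ha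
      exact (Preadditive.IsIso.comp_left_eq_zero _ _).1 ha.symm
    obtain ⟨α, hα⟩ : ∃ α : E i ⟶ ∐ τ.X, f = α ≫ π := Triangle.coyoneda_exact₃ _ hT f hfδ
    subst hα
    obtain ⟨α', rfl⟩ := τ.exists_comp_d hE α z hz (by
      rw [← hx]
      exact (pb_comp H α π x).symm.trans hf) hzσ hzJ
    have h12 : τ.d ≫ π = 0 := comp_distTriang_mor_zero₁₂ _ hT
    rw [Category.assoc, h12, comp_zero]
  · obtain ⟨b, hb⟩ := τ.surj i h
    refine ⟨b ≫ Sigma.ι τ.X 0 ≫ π, ?_⟩
    rw [ev_apply, pb_comp, pb_comp, hx, hz, hb]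

end Tower

end Groth.Agent.Brown
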